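import Groth.Agent.Lib.FibreCard25.Descent
import Groth.Agent.Lib.AlgSpDescent.RingSource
import Mathlib.RingTheory.Smooth.Fiber

/-!
# Descent of étaleness from `A[t] → E[t]_D`
-/

set_option autoImplicit false
set_option backward.isDefEq.respectTransparency false
universe u

open Polynomial TensorProduct

attribute [local instance] Polynomial.algebra

namespace Groth.Agent.InertEt25

theorem smooth_polynomial (R : Type u) [CommRing R] : Algebra.Smooth R R[X] :=
  { formallySmooth := inferInstance
    finitePresentation := Algebra.FinitePresentation.equiv (MvPolynomial.uniqueAlgEquiv R PUnit.{u+1}) }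

/-- Two infinitesimally close homomorphisms which extend to an étale algebra over `A[t]` are equal. -/
theorem eq_of_etale_polynomial {A E C₁ Q Q' : Type u} [CommRing A] [CommRing E] [Algebra A E] [CommRing C₁]
    [Algebra E[X] C₁] [Algebra A[X] C₁] [IsScalarTower A[X] E[X] C₁] [Algebra.Etale A[X] C₁] (D' : E[X])
    [IsLocalization.Away D' C₁] [CommRing Q] [CommRing Q'] (J : Ideal Q) (hJ : J ^ 2 = ⊥) (g₁ g₂ : E →+* Q)
    (hA : ∀ a : A, g₁ (algebraMap A E a) = g₂ (algebraMap A E a)) (hg : ∀ e, g₂ e - g₁ e ∈ J)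
    (i : Q →+* Q') (hi : Function.Injective i) (h₁ : C₁ →+* Q')
    (hC : ∀ e : E, h₁ (algebraMap E[X] C₁ (C e)) = i (g₁ e)) : g₁ = g₂ := by
  let J' := J.map i
  have hJ' : IsNilpotent J' := ⟨2, (Ideal.map_pow i J 2).symm.trans ((congrArg (Ideal.map i) hJ).trans Ideal.map_bot)⟩
  let h₂ : E[X] →+* Q' := eval₂RingHom (i.comp g₂) (h₁ (algebraMap E[X] C₁ X))
  have hq : (Ideal.Quotient.mk J').comp h₂ = (Ideal.Quotient.mk J').comp (h₁.comp (algebraMap E[X] C₁)) := by
    refine Polynomial.ringHom_ext (fun e => ?_) (congrArg (Ideal.Quotient.mk J') (eval₂_X _ _))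
    refine (Ideal.Quotient.mk_eq_mk_iff_sub_mem _ _).2 ?_
    rw [show h₂ (C e) = i (g₂ e) from eval₂_C _ _, RingHom.comp_apply, hC, ← map_sub]
    exact Ideal.mem_map_of_mem _ (hg e)
  have hmod : ∀ p, h₂ p - h₁ (algebraMap E[X] C₁ p) ∈ J' := fun p =>
    (Ideal.Quotient.mk_eq_mk_iff_sub_mem _ _).1 (RingHom.congr_fun hq p)
  have hu : IsUnit (h₂ D') := by
    have h0 : IsNilpotent (h₂ D' - h₁ (algebraMap E[X] C₁ D')) := by
      obtain ⟨n, hn⟩ := hJ'
      exact ⟨n, by simpa [hn] using Ideal.pow_mem_pow (hmod D') n⟩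
    have := h0.isUnit_add_left_of_commute ((IsLocalization.Away.algebraMap_isUnit D').map h₁) (Commute.all _ _)
    rwa [add_sub_cancel] at this
  have hA' : h₂.comp (algebraMap A[X] E[X]) = (h₁.comp (algebraMap E[X] C₁)).comp (algebraMap A[X] E[X]) := by
    refine Polynomial.ringHom_ext (fun a => ?_) ?_
    · have h1 : algebraMap A[X] E[X] (C a) = C (algebraMap A E a) := map_C _
      rw [RingHom.comp_apply, RingHom.comp_apply, RingHom.comp_apply, h1,
        show h₂ (C (algebraMap A E a)) = i (g₂ (algebraMap A E a)) from eval₂_C _ _, hC, hA]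
    · have h1 : algebraMap A[X] E[X] X = X := map_X _
      rw [RingHom.comp_apply, RingHom.comp_apply, RingHom.comp_apply, h1]
      exact eval₂_X _ _
  letI : Algebra A[X] Q' := (h₁.comp (algebraMap A[X] C₁)).toAlgebra
  let f₁ : C₁ →ₐ[A[X]] Q' := { h₁ with commutes' := fun p => rfl }
  let f₂ : C₁ →ₐ[A[X]] Q' := { IsLocalization.Away.lift D' hu with
    commutes' := fun p => by
      show IsLocalization.Away.lift D' hu (algebraMap A[X] C₁ p) = h₁ (algebraMap A[X] C₁ p)
      rw [IsScalarTower.algebraMap_apply A[X] E[X] C₁, IsLocalization.Away.lift_eq]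
      exact RingHom.congr_fun hA' p }
  have hf : f₂ = f₁ := by
    refine Algebra.FormallyUnramified.lift_unique' (R := A[X]) (Ideal.Quotient.mkₐ A[X] J') ?_ _ _ ?_
    · simpa [Ideal.Quotient.mkₐ_ker] using hJ'
    refine AlgHom.coe_ringHom_injective (IsLocalization.ringHom_ext (Submonoid.powers D') (RingHom.ext fun p => ?_))
    show Ideal.Quotient.mk J' (IsLocalization.Away.lift D' hu (algebraMap E[X] C₁ p)) = Ideal.Quotient.mk J' _
    rw [IsLocalization.Away.lift_eq]
    exact (Ideal.Quotient.mk_eq_mk_iff_sub_mem _ _).2 (hmod p)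
  refine RingHom.ext fun e => hi ?_
  have h1 : f₂ (algebraMap E[X] C₁ (C e)) = h₁ (algebraMap E[X] C₁ (C e)) := by rw [hf]; rfl
  have h2 : f₂ (algebraMap E[X] C₁ (C e)) = i (g₂ e) :=
    (IsLocalization.Away.lift_eq _ hu (C e)).trans (eval₂_C _ _)
  exact ((hC e).symm.trans h1.symm).trans h2

/-- If `E[t]_D` is étale over `A[t]`, then `E` is étale over `A` away from any coefficient of `D`. -/
theorem etale_away_coeff_of_polynomial {A E : Type u} [CommRing A] [CommRing E] [Algebra A E] (D : E[X]) (k : ℕ)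
    (h : Algebra.Etale A[X] (Localization.Away D)) : Algebra.Etale A (Localization.Away (D.coeff k)) := by
  let D' : E[X] := C (D.coeff k) * D
  let E₁ := Localization.Away (D.coeff k)
  let C₁ := Localization.Away (algebraMap E[X] (Localization.Away D) (C (D.coeff k)))
  haveI : IsLocalization.Away D' C₁ :=
    IsLocalization.Away.mul (Localization.Away D) C₁ D (C (D.coeff k))
  -- the smaller localisation is still étale over `A[t]`
  haveI : Algebra.Etale A[X] C₁ := by
    haveI : Algebra.Etale (Localization.Away D) C₁ :=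
      Algebra.Etale.of_isLocalizationAway (algebraMap E[X] (Localization.Away D) (C (D.coeff k)))
    exact Algebra.Etale.comp A[X] (Localization.Away D) C₁
  have haC : IsUnit (algebraMap E C₁ (D.coeff k)) := by
    rw [IsScalarTower.algebraMap_apply E E[X] C₁]
    exact isUnit_of_dvd_unit (map_dvd _ (Dvd.intro D rfl)) (IsLocalization.Away.algebraMap_isUnit D')
  letI : Algebra E₁ C₁ := (IsLocalization.Away.lift (D.coeff k) haC).toAlgebra
  haveI : IsScalarTower E E₁ C₁ := IsScalarTower.of_algebraMap_eq fun r => (IsLocalization.Away.lift_eq _ haC r).symm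
  haveI : Module.FaithfullyFlat E₁ C₁ := FibreCard25.faithfullyFlat_away E D k E₁ C₁
  haveI : IsScalarTower A E₁ C₁ := IsScalarTower.of_algebraMap_eq fun r => by
    rw [IsScalarTower.algebraMap_apply A E E₁, ← IsScalarTower.algebraMap_apply E E₁ C₁,
      ← IsScalarTower.algebraMap_apply A E C₁]
  haveI : IsScalarTower A A[X] C₁ := IsScalarTower.of_algebraMap_eq fun r => by
    refine (IsScalarTower.algebraMap_apply A E[X] C₁ r).trans ?_
    refine (congrArg (algebraMap E[X] C₁) ?_).trans (IsScalarTower.algebraMap_apply A[X] E[X] C₁ _).symm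
    simp [Polynomial.algebraMap_apply]
  haveI := smooth_polynomial A
  haveI := smooth_polynomial E
  haveI : Algebra.Smooth A C₁ := Algebra.Smooth.comp A A[X] C₁
  haveI : Algebra.Smooth E C₁ := Algebra.Smooth.comp E E[X] C₁
  haveI : Algebra.Smooth E₁ C₁ :=
    { formallySmooth := Algebra.FormallySmooth.localization_base (Submonoid.powers (D.coeff k))
      finitePresentation := Algebra.FinitePresentation.of_restrict_scalars_finitePresentation E E₁ C₁ }
  haveI : Algebra.FinitePresentation A E₁ := AlgSpDescent.finitePresentation_of_smooth_faithfullyFlat A E₁ C₁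
  haveI : Module.Flat A E₁ := AlgSpDescent.flat_of_faithfullyFlat_source A E₁ C₁
  haveI : Algebra.FormallyUnramified A E₁ := by
    rw [Algebra.FormallyUnramified.iff_comp_injective]
    intro Q _ _ J hJ g₁ g₂ hg
    letI : Algebra E₁ Q := g₁.toRingHom.toAlgebra
    haveI : IsScalarTower A E₁ Q := IsScalarTower.of_algebraMap_eq fun r => (g₁.commutes r).symm
    let Q' := C₁ ⊗[E₁] Q
    let i : Q →+* Q' := (Algebra.TensorProduct.includeRight : Q →ₐ[E₁] Q').toRingHom
    have hi : Function.Injective i := Module.FaithfullyFlat.tensorProduct_mk_injective Q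
    let h₁ : C₁ →+* Q' := (Algebra.TensorProduct.includeLeftRingHom : C₁ →+* Q')
    refine AlgHom.coe_ringHom_injective (IsLocalization.ringHom_ext (Submonoid.powers (D.coeff k)) ?_)
    refine eq_of_etale_polynomial (A := A) (C₁ := C₁) (Q' := C₁ ⊗[E₁] Q) D' J hJ _ _ (fun a => ?_) (fun e => ?_) i hi h₁ (fun e => ?_)
    · simp only [RingHom.comp_apply, RingHom.coe_coe]
      rw [← IsScalarTower.algebraMap_apply A E E₁]
      exact (g₁.commutes a).trans (g₂.commutes a).symm
    · exact (Ideal.Quotient.mk_eq_mk_iff_sub_mem _ _).1 (AlgHom.congr_fun hg (algebraMap E E₁ e)).symm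
    · rw [show algebraMap E[X] C₁ (C e) = algebraMap E₁ C₁ (algebraMap E E₁ e) by
        rw [← IsScalarTower.algebraMap_apply E E₁ C₁, IsScalarTower.algebraMap_apply E E[X] C₁]; rfl]
      exact (Algebra.TensorProduct.tmul_one_eq_one_tmul (algebraMap E E₁ e))
  exact Algebra.Etale.of_formallyUnramified_of_flat

end Groth.Agent.InertEt25
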