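import Groth.Agent.Lib.InertEt25.Standard
import Groth.Agent.Lib.InertEt25.Descend
import Groth.Prelude.Def_Pi1
import Mathlib.GroupTheory.GroupAction.Quotient

/-!
# Étaleness of the invariants of an inertia group over the invariants
-/

set_option autoImplicit false
set_option backward.isDefEq.respectTransparency false
universe u

open Polynomial

attribute [local instance] Polynomial.algebra

namespace Groth.Agent.InertEt25

variable {G R : Type u} [Group G] [Finite G] [CommRing R] [MulSemiringAction G R]

/-- The action of `G` on polynomials through the coefficients. -/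
noncomputable def act (σ : G) : R[X] →+* R[X] := mapRingHom (MulSemiringAction.toRingHom G R σ)

omit [Finite G] in
theorem act_coeff (σ : G) (p : R[X]) (n : ℕ) : (act σ p).coeff n = σ • p.coeff n := coeff_map _ _

omit [Finite G] in
theorem act_act (σ τ : G) (p : R[X]) : act σ (act τ p) = act (σ * τ) p := by
  ext n; simp [act_coeff, mul_smul]

omit [Finite G] in
theorem act_of_mem {H : Subgroup G} (x : (FixedPoints.subring R H)[X]) {h : G} (hh : h ∈ H) :
    act h (x.map (FixedPoints.subring R H).subtype) = x.map (FixedPoints.subring R H).subtype := by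
  ext n
  rw [act_coeff, coeff_map]
  exact (x.coeff n).2 ⟨h, hh⟩

section Conjugates

variable (H : Subgroup G)

/-- The conjugate of an invariant polynomial belonging to a coset. -/
noncomputable def conj (x : (FixedPoints.subring R H)[X]) (c : G ⧸ H) : R[X] :=
  act c.out (x.map (FixedPoints.subring R H).subtype)

omit [Finite G] in
theorem conj_mk (x : (FixedPoints.subring R H)[X]) (σ : G) :
    conj H x (σ : G ⧸ H) = act σ (x.map (FixedPoints.subring R H).subtype) := by
  obtain ⟨h, hh⟩ := QuotientGroup.mk_out_eq_mul H σ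
  rw [conj, hh, ← act_act, act_of_mem x h.2]

omit [Finite G] in
theorem act_conj (x : (FixedPoints.subring R H)[X]) (σ : G) (c : G ⧸ H) :
    act σ (conj H x c) = conj H x (σ • c) := by
  rw [conj, act_act, ← conj_mk, ← smul_eq_mul, ← MulAction.Quotient.smul_coe, QuotientGroup.out_eq']

end Conjugates

omit [Finite G] in
/-- Invariant polynomials in two variables come from the invariants. -/
theorem exists_lift_of_invariant (Q : R[X][X]) (h : ∀ σ : G, Q.map (act σ) = Q) :
    ∃ P : (FixedPoints.subring R G)[X][X], P.map (mapRingHom (FixedPoints.subring R G).subtype) = Q := by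
  refine (mem_lifts Q).1 ((lifts_iff_coeff_lifts Q).2 fun n => ?_)
  refine (mem_lifts (Q.coeff n)).1 ((lifts_iff_coeff_lifts (Q.coeff n)).2 fun m => ?_)
  refine ⟨⟨(Q.coeff n).coeff m, fun σ => ?_⟩, rfl⟩
  rw [← act_coeff, ← coeff_map, h σ]

/-- Separating invariants modulo `q`. -/
theorem exists_separating_of_inertia (q : Ideal R) [q.IsPrime] (σ : G) (hσ : σ ∉ q.inertia G) :
    ∃ e : FixedPoints.subring R (q.inertia G), σ • (e : R) - e ∉ q := by
  classical
  cases nonempty_fintype G
  by_contra! hc
  set H := q.inertia G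
  have hne : ∀ h : H, ∃ x : R, (σ * h) • x - x ∉ q := by
    intro h
    by_contra! hx
    refine hσ ?_
    have hm : σ * h ∈ H := hx
    simpa using H.mul_mem hm (H.inv_mem h.2)
  choose c hc' using hne
  let x : R[X] := ∑ h : H, monomial (Fintype.equivFin H h : ℕ) (c h)
  let p : R[X][X] := ∏ h : H, (X - C (act (h : G) x))
  let π : R[X] →+* (R ⧸ q)[X] := mapRingHom (Ideal.Quotient.mk q)
  haveI : IsDomain (R ⧸ q) := inferInstance
  -- the coefficients are invariant under the inertia group
  have hinv : ∀ h' : H, p.map (act (h' : G)) = p := fun h' => by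
    rw [Polynomial.map_prod]
    refine Fintype.prod_equiv (Equiv.mulLeft h') _ _ fun h => ?_
    rw [Polynomial.map_sub, map_X, map_C, act_act]
    rfl
  have hcoef : ∀ (n m : ℕ) (h' : H), (h' : G) • (p.coeff n).coeff m = (p.coeff n).coeff m := fun n m h' => by
    rw [← act_coeff, ← coeff_map, hinv h']
  have hfix : (p.map (act σ)).map π = p.map π := by
    ext n m
    rw [coeff_map, coeff_map, coeff_map, coe_mapRingHom, coeff_map, coeff_map, act_coeff]
    exact (Ideal.Quotient.mk_eq_mk_iff_sub_mem _ _).2 (hc ⟨(p.coeff n).coeff m, fun h' => hcoef n m h'⟩)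
  have h1 : (p.map π).eval (π x) = 0 := by
    rw [Polynomial.map_prod, eval_prod]
    refine Finset.prod_eq_zero (Finset.mem_univ 1) ?_
    rw [Polynomial.map_sub, map_X, map_C, eval_sub, eval_X, eval_C]
    rw [show act ((1 : H) : G) x = x by ext n; simp [act_coeff]]
    exact sub_self _
  rw [← hfix, Polynomial.map_map, Polynomial.map_prod, eval_prod, Finset.prod_eq_zero_iff] at h1
  obtain ⟨h, -, hh⟩ := h1
  rw [Polynomial.map_sub, map_X, map_C, eval_sub, eval_X, eval_C, sub_eq_zero, RingHom.comp_apply, act_act] at hh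
  apply hc' h
  have h2 := congrArg (coeff · (Fintype.equivFin H h : ℕ)) hh
  simp only [π, coe_mapRingHom, coeff_map, act_coeff] at h2
  have h3 : x.coeff (Fintype.equivFin H h : ℕ) = c h := by
    simp [x, finset_sum_coeff, coeff_monomial, Fin.val_inj]
  rw [h3] at h2
  exact (Ideal.Quotient.mk_eq_mk_iff_sub_mem _ _).1 h2.symm

set_option maxHeartbeats 800000 in
/-- If the invariants of `H` separate `q` from its conjugates by elements outside `H`, they are étale over the
invariants of `G` near `q`. -/
theorem exists_etale_of_separating (H : Subgroup G) (q : Ideal R) [q.IsPrime]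
    (hsep : ∀ σ : G, σ ∉ H → ∃ e : FixedPoints.subring R H, σ • (e : R) - e ∉ q) :
    ∃ g : FixedPoints.subring R H, (g : R) ∉ q ∧
      Algebra.Etale (FixedPoints.subring R G) (Localization.Away g) := by
  classical
  cases nonempty_fintype G
  haveI : Fintype (G ⧸ H) := Fintype.ofFinite _
  set A := FixedPoints.subring R G
  set E := FixedPoints.subring R H
  let ι : E[X] →+* R[X] := mapRingHom E.subtype
  have hι : Function.Injective ι := map_injective _ Subtype.val_injective
  let j : A[X] →+* R[X] := mapRingHom A.subtype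
  have hj : ι.comp (algebraMap A[X] E[X]) = j := by
    rw [Polynomial.algebraMap_def, mapRingHom_comp]
    rfl
  have hjinj : Function.Injective j := map_injective _ Subtype.val_injective
  have hjfix : ∀ σ : G, (act σ).comp j = j := fun σ => by
    refine RingHom.ext fun a => ?_
    ext n
    rw [RingHom.comp_apply, act_coeff, coe_mapRingHom, coeff_map]
    exact (a.coeff n).2 σ
  -- a separating invariant polynomial
  have hsep' : ∀ c : G ⧸ H, ∃ e : E, c ≠ ((1 : G) : G ⧸ H) → c.out • (e : R) - e ∉ q := fun c => by
    by_cases hc : c.out ∈ H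
    · refine ⟨0, fun h => absurd ?_ h⟩
      rw [← QuotientGroup.out_eq' c, QuotientGroup.eq]
      simpa using H.inv_mem hc
    · obtain ⟨e, he⟩ := hsep _ hc
      exact ⟨e, fun _ => he⟩
  choose e he using hsep'
  let θ : E[X] := ∑ c, monomial (Fintype.equivFin (G ⧸ H) c : ℕ) (e c)
  let r : G ⧸ H → R[X] := conj H θ
  let c₀ : G ⧸ H := ((1 : G) : G ⧸ H)
  have hr0 : ∀ x, conj H x c₀ = ι x := fun x => by
    rw [conj_mk]; ext n; simp [act_coeff, ι]
  have hperm : ∀ (σ : G) (c : G ⧸ H), (X - C (r c) : R[X][X]).map (act σ) = X - C (r (σ • c)) := fun σ c => by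
    rw [Polynomial.map_sub, map_X, map_C, act_conj]
  obtain ⟨P, hP⟩ := exists_lift_of_invariant (G := G) (∏ c, (X - C (r c))) fun σ => by
    rw [Polynomial.map_prod]
    exact Fintype.prod_equiv (MulAction.toPerm σ : Equiv.Perm (G ⧸ H)) _ _ (hperm σ)
  have hEt : Algebra.Etale A[X] (Localization.Away (aeval θ (derivative P))) := by
    refine etale_away_of_conjugates ι hι (by rw [hj]; exact hjinj) r c₀ θ (hr0 θ) P (by rw [hj]; exact hP) (fun s => ?_) ?_
    · let Qs : R[X][X] := ∑ c, C (conj H s c) * ∏ d ∈ Finset.univ.erase c, (X - C (r d))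
      obtain ⟨Q, hQ⟩ := exists_lift_of_invariant (G := G) Qs fun σ => by
        rw [Polynomial.map_sum]
        refine Fintype.sum_equiv (MulAction.toPerm σ : Equiv.Perm (G ⧸ H)) _ _ fun c => ?_
        rw [Polynomial.map_mul, map_C, act_conj, Polynomial.map_prod]
        congr 1
        refine Finset.prod_equiv (MulAction.toPerm σ : Equiv.Perm (G ⧸ H)) (fun d => ?_) fun d _ => hperm σ d
        simp
      refine ⟨Q, ?_⟩
      rw [aeval_def, hom_eval₂, hj, ← eval_map, hQ, eval_finsetSum, Finset.sum_eq_single c₀]
      · rw [eval_mul, eval_C, hr0, eval_prod]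
        simp
      · intro c _ hc
        rw [eval_mul, eval_prod, Finset.prod_eq_zero (Finset.mem_erase.2 ⟨hc.symm, Finset.mem_univ c₀⟩), mul_zero]
        rw [eval_sub, eval_X, eval_C, show r c₀ = ι θ from hr0 θ, sub_self]
      · intro h; exact absurd (Finset.mem_univ _) h
    · intro h hh c
      rw [hj]
      have h1 : eval₂ j (ι θ) h = 0 := by
        rw [← hj, ← hom_eval₂, ← aeval_def, hh, map_zero]
      have h2 := congrArg (act c.out) h1
      rw [hom_eval₂, hjfix, map_zero] at h2
      exact h2
  -- the derivative does not vanish at `q`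
  let π : R[X] →+* (R ⧸ q)[X] := mapRingHom (Ideal.Quotient.mk q)
  have hD : ι (aeval θ (derivative P)) = ∏ c ∈ Finset.univ.erase c₀, (ι θ - r c) := by
    rw [aeval_def, hom_eval₂, hj, ← eval_map, ← derivative_map, hP,
      ← Finset.mul_prod_erase _ _ (Finset.mem_univ c₀), derivative_mul, derivative_X_sub_C, eval_add, eval_mul,
      eval_mul, eval_one, eval_sub, eval_X, eval_C, show r c₀ = ι θ from hr0 θ, sub_self, zero_mul, add_zero, one_mul,
      eval_prod]
    simp
  have hne : π (ι (aeval θ (derivative P))) ≠ 0 := by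
    rw [hD, map_prod, Finset.prod_ne_zero_iff]
    intro c hc h0
    apply he c (Finset.ne_of_mem_erase hc)
    have h2 := congrArg (coeff · (Fintype.equivFin (G ⧸ H) c : ℕ)) h0
    simp only [π, coe_mapRingHom, coeff_map, coeff_zero] at h2
    rw [Ideal.Quotient.eq_zero_iff_mem, coeff_sub] at h2
    have h3 : θ.coeff (Fintype.equivFin (G ⧸ H) c : ℕ) = e c := by
      simp [θ, finset_sum_coeff, coeff_monomial, Fin.val_inj]
    simp only [r, conj, act_coeff, ι, coe_mapRingHom, coeff_map, h3] at h2
    simpa using q.neg_mem h2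
  obtain ⟨k, hk⟩ : ∃ k, ((aeval θ (derivative P)).coeff k : R) ∉ q := by
    by_contra! h
    refine hne (Polynomial.ext fun k => ?_)
    rw [coe_mapRingHom, coeff_map, coeff_zero, coe_mapRingHom, coeff_map, Ideal.Quotient.eq_zero_iff_mem]
    exact h k
  exact ⟨_, hk, etale_away_coeff_of_polynomial _ k hEt⟩

end Groth.Agent.InertEt25
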