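import Mathlib.RingTheory.Etale.StandardEtale
import Mathlib.RingTheory.Localization.Away.Basic

/-!
# Standard étale pairs from families of conjugate roots
-/

set_option autoImplicit false
set_option backward.isDefEq.respectTransparency false
universe u

open Polynomial

namespace Groth.Agent.InertEt25

/-- Every element of a standard étale algebra is a polynomial in the generator up to a power of `g`. -/
theorem exists_mul_pow_eq_aeval {R : Type u} [CommRing R] (P : StandardEtalePair R) (z : P.Ring) :
    ∃ (k : ℕ) (g : R[X]), z * aeval P.X P.g ^ k = aeval P.X g := by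
  have h1 : aeval (R := R) P.X = (Ideal.Quotient.mkₐ R _).comp (Polynomial.CAlgHom (R := R) (A := R[X])) := by
    ext; simp [StandardEtalePair.Ring, StandardEtalePair.X]
  obtain ⟨w, rfl⟩ := Ideal.Quotient.mk_surjective z
  induction w using Polynomial.induction_on' with
  | add p q hp hq =>
    obtain ⟨k, g, hg⟩ := hp
    obtain ⟨l, g', hg'⟩ := hq
    refine ⟨k + l, g * P.g ^ l + g' * P.g ^ k, ?_⟩
    rw [map_add (aeval P.X), map_mul, map_mul, map_pow, map_pow, ← hg, ← hg', map_add, pow_add]
    ring
  | monomial n c =>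
    refine ⟨n, c, ?_⟩
    have hY := P.aeval_X_g_mul_mk_X
    rw [mul_comm] at hY
    rw [h1] at hY ⊢
    rw [← C_mul_X_pow_eq_monomial, map_mul, map_pow, mul_assoc, ← mul_pow, hY, one_pow, mul_one]
    rfl

/-- Let `R → R'` be injective, let the monic `P` over `A` have over `R'` the roots `r c`, and let `θ` in `S` map to
`r c₀`. If every element of `S` is interpolated by a polynomial over `A` and every relation on `θ` holds at all
roots, then `S` becomes standard étale over `A` once `P'(θ)` is inverted. -/
theorem etale_away_of_conjugates {A S R' : Type u} [CommRing A] [CommRing S] [CommRing R'] [Algebra A S]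
    (ι : S →+* R') (hι : Function.Injective ι) (hj : Function.Injective (ι.comp (algebraMap A S)))
    {T : Type u} [Fintype T] [DecidableEq T] (r : T → R') (c₀ : T) (θ : S) (hθ : r c₀ = ι θ) (P : A[X])
    (hP : P.map (ι.comp (algebraMap A S)) = ∏ c, (X - C (r c)))
    (hQ : ∀ s : S, ∃ Q : A[X], ι (aeval θ Q) = ι s * ∏ c ∈ Finset.univ.erase c₀, (ι θ - r c))
    (hrel : ∀ h : A[X], aeval θ h = 0 → ∀ c, eval₂ (ι.comp (algebraMap A S)) (r c) h = 0) :
    Algebra.Etale A (Localization.Away (aeval θ (derivative P))) := by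
  set j := ι.comp (algebraMap A S) with hjdef
  have hPm : P.Monic := monic_of_injective hj (by rw [hP]; exact monic_prod_of_monic _ _ fun c _ => monic_X_sub_C _)
  have haev : ∀ g : A[X], ι (aeval θ g) = eval₂ j (ι θ) g := fun g => by rw [aeval_def, hom_eval₂]
  have hroot : aeval θ P = 0 := hι (by
    rw [map_zero, haev, ← eval_map, hP, eval_prod]
    exact Finset.prod_eq_zero (Finset.mem_univ c₀) (by rw [eval_sub, eval_X, eval_C, hθ, sub_self]))
  have hD : ι (aeval θ (derivative P)) = ∏ c ∈ Finset.univ.erase c₀, (ι θ - r c) := by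
    rw [haev, ← eval_map, ← derivative_map, hP, ← Finset.mul_prod_erase _ _ (Finset.mem_univ c₀), derivative_mul,
      derivative_X_sub_C, eval_add, eval_mul, eval_mul, eval_one, eval_sub, eval_X, eval_C, hθ, sub_self, zero_mul,
      add_zero, one_mul, eval_prod]
    simp
  set D := aeval θ (derivative P) with hDdef
  let S' := Localization.Away D
  let Q : StandardEtalePair A := ⟨P, hPm, derivative P, 1, 0, 1, by ring⟩
  let x : S' := algebraMap S S' θ
  have haevx : ∀ g : A[X], aeval x g = algebraMap S S' (aeval θ g) := fun g => aeval_algebraMap_apply S' θ g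
  have hm : Q.HasMap x :=
    ⟨by rw [haevx, show Q.f = P from rfl, hroot, map_zero],
      by rw [haevx]; exact IsLocalization.Away.algebraMap_isUnit D⟩
  have hlift : ∀ g : A[X], Q.lift x hm (aeval Q.X g) = algebraMap S S' (aeval θ g) := fun g => by
    rw [← aeval_algHom_apply, StandardEtalePair.lift_X, haevx]
  have hbij : Function.Bijective (Q.lift x hm) := by
    refine ⟨(injective_iff_map_eq_zero _).2 fun z hz => ?_, fun z => ?_⟩
    · obtain ⟨k, g, hg⟩ := exists_mul_pow_eq_aeval Q z
      have h0 : algebraMap S S' (aeval θ g) = 0 := by rw [← hlift, ← hg, map_mul, hz, zero_mul]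
      obtain ⟨⟨_, m, rfl⟩, hmd⟩ := (IsLocalization.map_eq_zero_iff (Submonoid.powers D) S' _).1 h0
      let h := derivative P ^ m * g
      have hh : aeval θ h = 0 := by rw [map_mul, map_pow]; exact hmd
      have hdvd : P.map j ∣ (h * derivative P).map j := by
        rw [Polynomial.map_mul, ← derivative_map, hP, derivative_prod_finset, Finset.mul_sum]
        refine Finset.dvd_sum fun c _ => ?_
        rw [derivative_X_sub_C, mul_one, ← Finset.mul_prod_erase _ _ (Finset.mem_univ c)]
        refine mul_dvd_mul ?_ dvd_rfl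
        rw [dvd_iff_isRoot, IsRoot, eval_map]
        exact hrel h hh c
      obtain ⟨e, he⟩ := (Polynomial.map_dvd_map j hj hPm).1 hdvd
      have hu : IsUnit (aeval Q.X (derivative P)) := Q.hasMap_X.2
      have hz0 : z * aeval Q.X (derivative P) ^ k * aeval Q.X (derivative P) ^ (m + 1) = 0 := by
        rw [show z * aeval Q.X (derivative P) ^ k = aeval Q.X g from hg]
        have : aeval Q.X (h * derivative P) = 0 := by
          rw [he, map_mul, show aeval Q.X P = 0 from Q.hasMap_X.1, zero_mul]
        rw [map_mul, map_mul, map_pow] at this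
        rw [pow_succ]
        linear_combination this
      exact (hu.pow k).mul_left_eq_zero.1 ((hu.pow (m + 1)).mul_left_eq_zero.1 hz0)
    · obtain ⟨s, ⟨_, k, rfl⟩, rfl⟩ := IsLocalization.exists_mk'_eq (Submonoid.powers D) z
      obtain ⟨g, hg⟩ := hQ s
      have hg' : aeval θ g = s * D := hι (by rw [map_mul, hD, hg])
      obtain ⟨u, hu⟩ := Q.hasMap_X.2
      refine ⟨aeval Q.X g * ↑(u⁻¹ ^ (k + 1)), ?_⟩
      rw [IsLocalization.eq_mk'_iff_mul_eq]
      have h1 : Q.lift x hm ↑(u⁻¹ ^ (k + 1)) * algebraMap S S' D ^ (k + 1) = 1 := by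
        rw [show algebraMap S S' D = Q.lift x hm ↑u by rw [hu]; exact (hlift _).symm, ← map_pow, ← map_mul,
          ← Units.val_pow_eq_pow_val, ← Units.val_mul, ← mul_pow, inv_mul_cancel, one_pow, Units.val_one, map_one]
      rw [map_mul, hlift, hg', map_mul, map_pow]
      calc _ = algebraMap S S' s * (Q.lift x hm ↑(u⁻¹ ^ (k + 1)) * algebraMap S S' D ^ (k + 1)) := by ring
        _ = _ := by rw [h1, mul_one]
  exact Algebra.Etale.of_equiv (AlgEquiv.ofBijective _ hbij)

end Groth.Agent.InertEt25
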